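import Groth.Agent.Lib.Abel10.Main
import Groth.Agent.Lib.Abel10.Elliptic
import Groth.Agent.Lib.Twist.Triv
import Groth.Agent.Lib.SecDiv18.Basic
import Groth.Agent.Lib.TensorMod.InvCrit
import Groth.Agent.Lib.DivDesc12.Desc

/-!
# The direct image of the module of a section of a family of curves
-/

set_option autoImplicit false
set_option linter.style.haveILetI false
set_option linter.unusedSectionVars false
set_option maxHeartbeats 1000000
set_option backward.isDefEq.respectTransparency false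
set_option backward.isDefEq.respectTransparency.types false

universe u

open CategoryTheory CategoryTheory.Limits AlgebraicGeometry TopologicalSpace Opposite Groth.Agent.ModLimH13

noncomputable section

namespace Groth.Agent.PushPt12

open Groth.Agent.M1 Groth.Agent.P1Split Groth.Agent.CBC10 Groth.Agent.Abel10

section Gen

variable {X S : Scheme.{u}} (f : X ⟶ S) [IsProper f] [Flat f] [LocallyOfFinitePresentation f]

/-- Near a point where a section spans the sections on the fibre freely it spans the direct image. -/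
theorem exists_nhd_surjective_smul_le {L : X.Modules} (hL : PicF.IsInvertible L) (σ : Γ(L, (⊤ : X.Opens))) (s : S)
    (hsec : Function.Bijective fun c : Γ(Spec (S.residueField s), ⊤) =>
      (f.fiberToSpecResidueField s).appTop c • res' (f.fiberι s) L (W := ⊤) (W' := ⊤) le_top σ) :
    ∃ U : S.Opens, s ∈ U ∧ ∀ V ≤ U, Function.Surjective fun c : Γ(S, V) =>
      f.app V c • M1.mres L (le_top : f ⁻¹ᵁ V ≤ ⊤) σ := by
  haveI : HasInjectiveResolutions X.Modules := CohFound.hasInjectiveResolutions_modules X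
  have hlfL := M2.isFinLocFree_of_isInvertible hL
  haveI hLq : Coh.IsQCoh L := M2.isQCoh_of_isFinLocFree hlfL
  have hfp : CohB1.IsFP L := M1.isFP_of_isFinLocFree hlfL
  have hfl : FlatMod.IsFlatOver f L := DPerf.isFlatOver_of_isFlat f (KFlat.Sch.isFlat_of_isFinLocFree hlfL)
  have h : IsPullback (f.fiberι s) (f.fiberToSpecResidueField s) f (S.fromSpecResidueField s) :=
    IsPullback.of_hasPullback _ _
  let g := S.fromSpecResidueField s
  let f' := f.fiberToSpecResidueField s
  let ι := f.fiberι s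
  let pF := (Scheme.Modules.pushforward f).obj L
  let T := (Scheme.Modules.pushforward f').obj ((Scheme.Modules.pullback ι).obj L)
  let β := CohBC.bc0 f g f' ι h.w L
  haveI : Subsingleton (Spec (S.residueField s)) := inferInstanceAs (Subsingleton (PrimeSpectrum (S.residueField s)))
  have eTop : ∀ {V : S.Opens}, s ∈ V → (⊤ : (Spec (S.residueField s)).Opens) ≤ g ⁻¹ᵁ V := fun {V} hV z _ => by
    show g z ∈ V
    rw [S.fromSpecResidueField_apply]
    exact hV
  let u : Γ(T, ⊤) := res' ι L (W := ⊤) (W' := ⊤) le_top σ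
  have hu : Function.Bijective fun c : Γ(Spec (S.residueField s), ⊤) => c • u := hsec
  have hone : ∀ {V : S.Opens} (hV : s ∈ V),
      β.app ⊤ (res' g pF (eTop hV) (show Γ(pF, V) from M1.mres L (le_top : f ⁻¹ᵁ V ≤ ⊤) σ)) = u := by
    intro V hV
    rw [CBC10.bc0_res']
    exact res'_mres ι L le_top _ σ
  have hepi : Epi β := by
    rw [CBC10.epi_iff_surjective_top]
    intro z
    obtain ⟨c, rfl⟩ := hu.2 z
    have e0 : (⊤ : (Spec (S.residueField s)).Opens) ≤ g ⁻¹ᵁ ⊤ := le_of_eq rfl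
    refine ⟨c • res' g pF e0 (show Γ(pF, ⊤) from M1.mres L (le_top : f ⁻¹ᵁ ⊤ ≤ ⊤) σ), ?_⟩
    rw [Scheme.Modules.Hom.app_smul]
    exact congrArg (c • ·) (hone (V := ⊤) trivial)
  obtain ⟨V₀, -, M₀, hsV₀⟩ := CBC10.exists_model_at f L hfp hfl (U := ⊤) (s := s) trivial
  obtain ⟨V', -, M', hsV', hflat⟩ := CBC10.exists_flat_model M₀ hsV₀ [-1] (by
    simpa using (M₀.epi_fibre0_iff hsV₀).1 hepi)
  haveI hβ : IsIso β := CBC10.isIso_bc0 h L fun z => ⟨V', M', eTop hsV' (Opens.mem_top z), hflat _ (by simp)⟩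
  have hlf : FlatMod.IsFinLocFree (pF.restrict V'.ι) :=
    CBC10.isFinLocFree_push_restrict V' fun t ht => ⟨V', M', ht, le_rfl, hflat _ (by simp)⟩
  obtain ⟨n, D₀, e₀, hsD₀, he₀⟩ := PushUnit3.exists_isBas_nhd' hlf ⟨s, hsV'⟩
  let D := V'.ι ''ᵁ D₀
  let E : Fin n → Γ(pF, D) := fun i => e₀ i
  have he : IsBas pF D E := isBas_of_restrict V'.ι pF he₀
  have hsD : s ∈ D := ⟨⟨s, hsV'⟩, hsD₀, rfl⟩
  obtain ⟨a, ha⟩ := (he D le_rfl).2 (show Γ(pF, D) from M1.mres L (le_top : f ⁻¹ᵁ D ≤ ⊤) σ)
  simp only [mres_id] at ha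
  let K := Γ(Spec (S.residueField s), ⊤)
  haveI : Nontrivial K := (Scheme.ΓSpecIso (S.residueField s)).inv.hom.injective.nontrivial
  let ā : Fin n → K := fun i => g.appLE D ⊤ (eTop hsD) (a i)
  let b : Fin n → Γ(T, ⊤) := fun i => β.app ⊤ (res' g pF (eTop hsD) (E i))
  have hb : Function.Bijective fun c : Fin n → K => ∑ i, c i • b i := by
    have h1 := AmpleFin18.isBas_pullback g he ⊤ (eTop hsD)
    have h2 := ConcreteCategory.bijective_of_isIso (β.app ⊤)
    have heq : (fun c : Fin n → K => ∑ i, c i • b i) =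
        β.app ⊤ ∘ fun c : Fin n → K => ∑ i, c i • M1.mres _ (eTop hsD) (M2.pullSec g pF (E i)) := by
      funext c
      simp only [Function.comp_apply, map_sum]
      exact Finset.sum_congr rfl fun i _ => (Scheme.Modules.Hom.app_smul β _ _).symm
    rw [heq]
    exact h2.comp h1
  have hab : ∑ i, ā i • b i = u := by
    rw [← hone hsD, ← ha]
    have hsum : res' g pF (eTop hsD) (∑ i, a i • E i) = ∑ i, ā i • res' g pF (eTop hsD) (E i) := by
      let φ : Γ(pF, D) →+ Γ((Scheme.Modules.pullback g).obj pF, ⊤) :=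
        AddMonoidHom.mk' (res' g pF (eTop hsD)) (res'_add g pF (eTop hsD))
      show φ _ = _
      rw [map_sum]
      exact Finset.sum_congr rfl fun i _ => res'_smul g pF (eTop hsD) (a i) (E i)
    rw [hsum, map_sum]
    exact Finset.sum_congr rfl fun i _ => (Scheme.Modules.Hom.app_smul β _ _).symm
  obtain ⟨hn, hunit⟩ := LiftFib11.isUnit_coord b hb u hu ā hab
  subst hn
  have hunit' : IsUnit (S.presheaf.germ D s hsD (a 0)) := by
    let z : Spec (S.residueField s) := IsLocalRing.closedPoint (S.residueField s)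
    have hz : g z = s := S.fromSpecResidueField_apply s z
    have hzD : g z ∈ D := hz.symm ▸ hsD
    have h3 : IsUnit (S.presheaf.germ D (g z) hzD (a 0)) := by
      refine isUnit_of_map_unit (g.stalkMap z).hom _ ?_
      rw [Scheme.Hom.germ_stalkMap_apply g D z hzD (a 0)]
      have h4 := hunit.map ((Spec (S.residueField s)).presheaf.germ ⊤ z trivial).hom
      simp only [ā, Scheme.Hom.appLE, CommRingCat.comp_apply] at h4
      rwa [TopCat.Presheaf.germ_res_apply] at h4
    rw [← Scheme.mem_basicOpen] at h3 ⊢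
    rwa [hz] at h3
  refine ⟨S.basicOpen (a 0), by rwa [Scheme.mem_basicOpen], fun U hUb m => ?_⟩
  have hVD : U ≤ D := hUb.trans (S.basicOpen_le _)
  have ha0 : IsUnit (ores hVD (a 0)) := by
    have h0 : IsUnit (ores (S.basicOpen_le (a 0)) (a 0)) := RingedSpace.isUnit_res_basicOpen S.toRingedSpace (a 0)
    have h1 := h0.map (S.presheaf.map (homOfLE hUb).op).hom
    rwa [← CommRingCat.comp_apply, ← Functor.map_comp] at h1
  obtain ⟨v, hv⟩ := ha0
  obtain ⟨d, hd⟩ := (he U hVD).2 (show Γ(pF, U) from m)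
  have h1 : (∑ i, ores hVD (a i) • M1.mres pF hVD (E i)) = (show Γ(pF, U) from M1.mres L le_top σ) := by
    rw [← mres_sum_smul, ha]
    exact M1.mres_mres L _ _ σ
  refine ⟨d 0 * ↑v⁻¹, ?_⟩
  show (d 0 * ↑v⁻¹) • (show Γ(pF, U) from M1.mres L le_top σ) = (show Γ(pF, U) from m)
  simp only [Fin.sum_univ_one] at h1 hd
  rw [← h1, ← hd, ← hv, smul_smul, mul_assoc, Units.inv_mul, mul_one]


end Gen

section Main

variable {C S : Scheme.{u}} (f : C ⟶ S) [IsProper f] [Smooth f] [GeometricallyConnected f]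
  (hdim : ∀ s : S, topologicalKrullDim ↥(f.fiber s) = 1)
  (hg : ∀ s : S, 1 ≤ CohIII.fiberRank f (Coh.structureModule C) 1 s)

theorem appLE_of_eq_id {Y : Scheme.{u}} (g : Y ⟶ Y) (hg : g = 𝟙 Y) {V : Y.Opens} (e : V ≤ g ⁻¹ᵁ V) (c : Γ(Y, V)) :
    g.appLE V V e c = c := by
  subst hg
  rw [Scheme.Hom.appLE]
  simp
  exact ConcreteCategory.congr_hom (Y.presheaf.map_id _) c

theorem isEffCartierIdeal_of_inverse {L : C.Modules} {J : C.IdealSheafData}
    (e : CohB1.tensorMod L (ClSub.idealMod J) ≅ Coh.structureModule C) : BlowUp.IsEffCartierIdeal J :=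
  SecDiv.isEffCartierIdeal_of_isInvertible J
    (M2.isInvertible_of_tensor_iso_unit _ _ (M2.tensorComm _ _ ≪≫ e))

include hdim hg in
/-- On a fibre the canonical section spans. -/
theorem bijective_fibre_section (x : S ⟶ C) (hx : x ≫ f = 𝟙 S) [IsClosedImmersion x] {L : C.Modules}
    (hL : PicF.IsInvertible L) {σ : Γ(L, (⊤ : C.Opens))} (hs : LocEq L x.ker σ) (y : S) :
    Function.Bijective fun c : Γ(Spec (S.residueField y), ⊤) =>
      (f.fiberToSpecResidueField y).appTop c • res' (f.fiberι y) L (W := ⊤) (W' := ⊤) le_top σ := by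
  have sq : IsPullback (f.fiberι y) (f.fiberToSpecResidueField y) f (S.fromSpecResidueField y) :=
    IsPullback.of_hasPullback _ _
  let q : Spec (S.residueField y) ⟶ f.fiber y := sq.lift (S.fromSpecResidueField y ≫ x) (𝟙 _)
    (by rw [Category.assoc, hx, Category.comp_id, Category.id_comp])
  have hq : q ≫ f.fiberToSpecResidueField y = 𝟙 _ := sq.lift_snd _ _ _
  have sqγ : IsPullback (S.fromSpecResidueField y) q x (f.fiberι y) := by
    refine IsPullback.of_bot ?_ (sq.lift_fst _ _ _).symm sq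
    rw [hq, hx]
    exact IsPullback.of_vert_isIso ⟨by simp⟩
  haveI : IsClosedImmersion q := MorphismProperty.of_isPullback (P := @IsClosedImmersion) sqγ inferInstance
  haveI : IsProper (f.fiberToSpecResidueField y) := MorphismProperty.of_isPullback (P := @IsProper) sq inferInstance
  haveI : Smooth (f.fiberToSpecResidueField y) := MorphismProperty.of_isPullback (P := @Smooth) sq inferInstance
  haveI : GeometricallyConnected (f.fiberToSpecResidueField y) :=
    MorphismProperty.of_isPullback (P := @GeometricallyConnected) sq inferInstance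
  letI : (f.fiber y).Over (Spec (S.residueField y)) := ⟨f.fiberToSpecResidueField y⟩
  refine bijective_smul_section (f.fiberToSpecResidueField y) (hdim y) ((hg y).trans_eq ?_) q hq
    (PicLoc.isInvertible_pullback _ hL) (hs.pullback sqγ)
  exact (CBC10.hmapLinEquiv (S.residueField y) (Twist.pullbackUnitIso (f.fiberι y)) 1).finrank_eq

/-- The canonical section is torsion free over the base. -/
theorem eq_zero_of_app_smul (x : S ⟶ C) (hx : x ≫ f = 𝟙 S) [IsClosedImmersion x] {L : C.Modules}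
    {σ : Γ(L, (⊤ : C.Opens))} (hs : LocEq L x.ker σ) (hJ : BlowUp.IsEffCartierIdeal x.ker) {V : S.Opens} (c : Γ(S, V))
    (h : f.app V c • M1.mres L (le_top : f ⁻¹ᵁ V ≤ ⊤) σ = 0) : c = 0 := by
  refine TopCat.Presheaf.section_ext S.sheaf _ _ _ fun s hsV => ?_
  change S.presheaf.germ V s hsV c = S.presheaf.germ V s hsV 0
  rw [map_zero]
  let z : C := x s
  have hfz : f z = s := by
    show (x ≫ f) s = s
    rw [hx]
    rfl
  have hzV : z ∈ f ⁻¹ᵁ V := by
    show f z ∈ V
    rw [hfz]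
    exact hsV
  obtain ⟨W, g, a, hzW, hg, hJW, hsW⟩ := hs z
  obtain ⟨U, hzU, e, he, heq⟩ := hJ z
  -- the equation is regular at `z`
  have hreg : C.presheaf.germ W.1 z hzW a ∈ nonZeroDivisors (C.presheaf.stalk z) := by
    letI := C.presheaf.algebra_section_stalk (⟨z, hzU⟩ : U.1)
    haveI := U.2.isLocalization_stalk ⟨z, hzU⟩
    have h1 : C.presheaf.germ U.1 z hzU e ∈ nonZeroDivisors (C.presheaf.stalk z) :=
      IsLocalization.map_nonZeroDivisors_le (U.2.primeIdealOf ⟨z, hzU⟩).asIdeal.primeCompl _ ⟨e, he, rfl⟩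
    have h2 : Ideal.span {C.presheaf.germ U.1 z hzU e} = Ideal.span {C.presheaf.germ W.1 z hzW a} := by
      rw [← Set.image_singleton, ← Ideal.map_span, ← heq, ← DivDesc12.stI_eq x.ker U hzU,
        DivDesc12.stI_eq x.ker W hzW, hJW, Ideal.map_span, Set.image_singleton]
    obtain ⟨r, hr⟩ := Ideal.mem_span_singleton'.1 (h2.le (Ideal.mem_span_singleton_self _))
    rw [mem_nonZeroDivisors_iff_right] at h1 ⊢
    intro b hb
    refine h1 b ?_
    rw [← hr, mul_left_comm, hb, mul_zero]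
  have h3 : C.presheaf.germ (f ⁻¹ᵁ V) z hzV (f.app V c) * C.presheaf.germ W.1 z hzW a = 0 := by
    have h4 := congrArg (Amp.gm L z hzV) h
    rw [Amp.gm_smul] at h4
    have h5 : Amp.gm L z hzV (M1.mres L (le_top : f ⁻¹ᵁ V ≤ ⊤) σ) =
        C.presheaf.germ W.1 z hzW a • Amp.gm L z hzW g := by
      rw [← Amp.gm_smul, ← hsW]
      exact (Amp.gm_res le_top hzV σ).trans (Amp.gm_res le_top hzW σ).symm
    rw [h5, smul_smul] at h4
    have h6 : Amp.Gen (Amp.gm L z hzW g) := hg.stalk hzW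
    refine h6.1 (h4.trans ?_)
    show Amp.gm L z hzV 0 = (0 : C.presheaf.stalk z) • Amp.gm L z hzW g
    rw [zero_smul]
    exact map_zero _
  have h7 := (mem_nonZeroDivisors_iff_right.1 hreg) _ h3
  -- back to the base along the section
  have hzV' : x s ∈ f ⁻¹ᵁ V := hzV
  have h8 := congrArg (x.stalkMap s) h7
  rw [map_zero, Scheme.Hom.germ_stalkMap_apply x (f ⁻¹ᵁ V) s hzV'] at h8
  have hV : V ≤ x ⁻¹ᵁ (f ⁻¹ᵁ V) := by rw [← Scheme.Hom.comp_preimage, hx]; exact le_rfl
  have h9 : S.presheaf.map (homOfLE hV).op (x.app (f ⁻¹ᵁ V) (f.app V c)) = c := by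
    show (x.appLE (f ⁻¹ᵁ V) V hV) (f.app V c) = c
    rw [← CommRingCat.comp_apply, Scheme.Hom.app_eq_appLE, Scheme.Hom.appLE_comp_appLE,
      Groth.Agent.PushPt12.appLE_of_eq_id (x ≫ f) hx]
  rw [← h9]
  exact (S.presheaf.germ_res_apply (homOfLE hV) s hsV _).trans h8

include hdim hg in
/-- The direct image is invertible, generated by the canonical section. -/
theorem isInvertible_push (x : S ⟶ C) (hx : x ≫ f = 𝟙 S) [IsClosedImmersion x] {L : C.Modules}
    (hL : PicF.IsInvertible L) {σ : Γ(L, (⊤ : C.Opens))} (hs : LocEq L x.ker σ)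
    (hJ : BlowUp.IsEffCartierIdeal x.ker) :
    PicF.IsInvertible ((Scheme.Modules.pushforward f).obj L) := by
  refine Twist.isInvertible_of_local _ fun s => ?_
  obtain ⟨U, hsU, hU⟩ := exists_nhd_surjective_smul_le f hL σ s (bijective_fibre_section f hdim hg x hx hL hs s)
  refine ⟨U, hsU, Twist.nonempty_restrict_iso _ U
    (show Γ((Scheme.Modules.pushforward f).obj L, U) from M1.mres L (le_top : f ⁻¹ᵁ U ≤ ⊤) σ) fun V hV => ?_⟩
  have key : ∀ r : Γ(S, V), r • M1.mres ((Scheme.Modules.pushforward f).obj L) hV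
      (show Γ((Scheme.Modules.pushforward f).obj L, U) from M1.mres L (le_top : f ⁻¹ᵁ U ≤ ⊤) σ) =
      (show Γ((Scheme.Modules.pushforward f).obj L, V) from f.app V r • M1.mres L (le_top : f ⁻¹ᵁ V ≤ ⊤) σ) :=
    fun r => congrArg (f.app V r • ·) (M1.mres_mres L _ (f.preimage_mono hV) σ)
  refine ⟨fun a b hab => ?_, fun m => ?_⟩
  · have hab' : f.app V a • M1.mres L (le_top : f ⁻¹ᵁ V ≤ ⊤) σ = f.app V b • M1.mres L (le_top : f ⁻¹ᵁ V ≤ ⊤) σ :=
      (key a).symm.trans (hab.trans (key b))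
    refine sub_eq_zero.1 (eq_zero_of_app_smul f x hx hs hJ (a - b) ?_)
    rw [map_sub, sub_smul, hab', sub_self]
  · obtain ⟨c, hc⟩ := hU V hV m
    exact ⟨c, (key c).trans hc⟩

include hdim hg in
/-- The section is determined by its module. -/
theorem section_unique (x x' : S ⟶ C) (hx : x ≫ f = 𝟙 S) (hx' : x' ≫ f = 𝟙 S) [IsClosedImmersion x]
    [IsClosedImmersion x'] {L : C.Modules} (hL : PicF.IsInvertible L) {σ σ' : Γ(L, (⊤ : C.Opens))}
    (hs : LocEq L x.ker σ) (hs' : LocEq L x'.ker σ') : x' = x := by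
  have hzero : res' x L (W := ⊤) (W' := ⊤) le_top σ = 0 := res'_eq_zero_of_le_ker hs x le_rfl
  choose U hU hsurj using fun z : S =>
    exists_nhd_surjective_smul_le f hL σ z (bijective_fibre_section f hdim hg x hx hL hs z)
  have key : res' x L (W := ⊤) (W' := ⊤) le_top σ' = 0 := by
    refine TopCat.Sheaf.eq_of_locally_eq' (⟨_, ((Scheme.Modules.pullback x).obj L).isSheaf⟩ : TopCat.Sheaf AddCommGrpCat S)
      U ⊤ (fun _ => homOfLE le_top) (fun z _ => Opens.mem_iSup.2 ⟨z, hU z⟩) _ 0 fun z => ?_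
    rw [map_zero]
    show M1.mres _ le_top (res' x L (W := ⊤) (W' := ⊤) le_top σ') = 0
    have eU : U z ≤ x ⁻¹ᵁ (f ⁻¹ᵁ U z) := by
      rw [← Scheme.Hom.comp_preimage, hx]
      exact le_rfl
    obtain ⟨d, hd⟩ := hsurj z (U z) le_rfl (M1.mres L (le_top : f ⁻¹ᵁ U z ≤ ⊤) σ')
    rw [mres_res', ← res'_mres x L (le_top : f ⁻¹ᵁ U z ≤ ⊤) eU σ', ← hd, res'_smul, res'_mres,
      ← mres_res' x L (e := le_top) (le_top : U z ≤ ⊤), hzero, map_zero, smul_zero]
  obtain ⟨l, hl⟩ := exists_factor x' hs' x key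
  have hl1 : l = 𝟙 S := by
    have h2 := congrArg (· ≫ f) hl
    simpa [hx, hx'] using h2
  rw [hl1, Category.id_comp] at hl
  exact hl

include hdim hg in
theorem main (x : S ⟶ C) (hx : x ≫ f = 𝟙 S) {L : C.Modules} (hL : PicF.IsInvertible L)
    (hLx : Nonempty (CohB1.tensorMod L (ClSub.idealMod x.ker) ≅ Coh.structureModule C)) :
    PicF.IsInvertible ((Scheme.Modules.pushforward f).obj L) ∧
      ∀ (x' : S ⟶ C), x' ≫ f = 𝟙 S →
        Nonempty (CohB1.tensorMod L (ClSub.idealMod x'.ker) ≅ Coh.structureModule C) → x' = x := by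
  have hci : ∀ y : S ⟶ C, y ≫ f = 𝟙 S → IsClosedImmersion y := fun y hy => by
    haveI : IsClosedImmersion (y ≫ f) := by rw [hy]; infer_instance
    exact IsClosedImmersion.of_comp y f
  haveI := hci x hx
  obtain ⟨σ, hs⟩ := exists_locEq (isEffCartierIdeal_of_inverse hLx.some) hL hLx.some
  refine ⟨isInvertible_push f hdim hg x hx hL hs (isEffCartierIdeal_of_inverse hLx.some), fun x' hx' hLx' => ?_⟩
  haveI := hci x' hx'
  obtain ⟨σ', hs'⟩ := exists_locEq (isEffCartierIdeal_of_inverse hLx'.some) hL hLx'.some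
  exact section_unique f hdim hg x x' hx hx' hL hs hs'

end Main

end Groth.Agent.PushPt12
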